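import Groth.Agent.S8914
import Groth.Agent.Boundary.Components
import Groth.Agent.FComplLib.IdealComap

/-!
# The inverse image of the module of an effective Cartier divisor
-/

set_option linter.style.haveILetI false
set_option backward.isDefEq.respectTransparency false
set_option backward.isDefEq.respectTransparency.types false

universe u

open CategoryTheory CategoryTheory.Limits AlgebraicGeometry TopologicalSpace

namespace Groth.Agent.CurveAlgEqLib

open Groth.Agent

variable {Y S : Scheme.{u}}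

theorem span_idealSect_frame (J : S.IdealSheafData) (U : S.affineOpens) {η : Γ(ClSub.idealMod J, U.1)}
    (hη : InvX.IsFrame η) : J.ideal U = Ideal.span {OmegaSh.idealSect J U.1 η} := by
  refine le_antisymm (fun a ha => ?_) ?_
  · obtain ⟨k, hk⟩ := OmegaLib.exists_of_mem J U a ha
    obtain ⟨r, hr⟩ := hη.exists_coord le_rfl k
    rw [AModX.res_self] at hr
    rw [← hk, hr, OmegaLib.idealSect_smul]
    exact Ideal.mul_mem_left _ r (Ideal.mem_span_singleton_self _)
  · rw [Ideal.span_singleton_le_iff_mem]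
    exact OmegaLib.idealSect_mem J U η

theorem isFrame_of_span (I : S.IdealSheafData) (W : S.affineOpens) {ε n : Γ(ClSub.idealMod I, W.1)}
    (hε : InvX.IsFrame ε) (hn : I.ideal W = Ideal.span {OmegaSh.idealSect I W.1 n}) : InvX.IsFrame n := by
  obtain ⟨r, hr⟩ := hε.exists_coord le_rfl n
  rw [AModX.res_self] at hr
  have hmem := OmegaLib.idealSect_mem I W ε
  rw [hn, Ideal.mem_span_singleton'] at hmem
  obtain ⟨s, hs⟩ := hmem
  rw [← OmegaLib.idealSect_smul] at hs
  have h1 : s • n = ε := OmegaLib.idealSect_injective I W.1 hs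
  have h2 : s * r = 1 := hε.coord_unique le_rfl (by rw [mul_smul, one_smul, AModX.res_self, ← hr, h1])
  rw [hr]
  exact hε.isUnit_smul (IsUnit.of_mul_eq_one_right s h2)

/-- The inverse image of an effective Cartier divisor, as modules. -/
theorem nonempty_pullback_idealMod (g : Y ⟶ S) {J : S.IdealSheafData}
    (hJ : PicF.IsInvertible (ClSub.idealMod J)) (hI : PicF.IsInvertible (ClSub.idealMod (J.comap g))) :
    Nonempty ((Scheme.Modules.pullback g).obj (ClSub.idealMod J) ≅ ClSub.idealMod (J.comap g)) := by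
  let I := J.comap g
  have hex : ∀ y : Y, ∃ (U : S.affineOpens) (η : Γ(ClSub.idealMod J, U.1)), g y ∈ U.1 ∧ InvX.IsFrame η := by
    intro y
    obtain ⟨U₀, h₀, η₀, hη₀⟩ := InvX.exists_frame hJ (g y)
    obtain ⟨U, hU, hyU, hle⟩ := exists_isAffineOpen_mem_and_subset h₀
    exact ⟨⟨U, hU⟩, AModX.res _ hle η₀, hyU, hη₀.res hle⟩
  choose U η hyU hη using hex
  have hexW : ∀ y : Y, ∃ (W : Y.affineOpens) (_ : W.1 ≤ g ⁻¹ᵁ (U y).1) (ε : Γ(ClSub.idealMod I, W.1)),
      y ∈ W.1 ∧ InvX.IsFrame ε := by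
    intro y
    obtain ⟨W₀, h₀, ε₀, hε₀⟩ := InvX.exists_frame hI y
    obtain ⟨W, hW, hyW, hle⟩ := exists_isAffineOpen_mem_and_subset (U := W₀ ⊓ g ⁻¹ᵁ (U y).1) (show y ∈ W₀ ⊓ g ⁻¹ᵁ (U y).1 from ⟨h₀, hyU y⟩)
    exact ⟨⟨W, hW⟩, fun z hz => (hle hz).2, AModX.res _ (fun z hz => (hle hz).1) ε₀, hyW, hε₀.res _⟩
  choose W hWU ε hyW hε using hexW
  let adj := Scheme.Modules.pullbackPushforwardAdjunction g
  let φ : (Scheme.Modules.pullback g).obj (ClSub.idealMod J) ⟶ Coh.structureModule Y :=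
    (adj.homEquiv _ _).symm (ClSub.idealModι J ≫ SheafOfModules.unitToPushforwardObjUnit g.toRingCatSheafHom)
  have hφ : ∀ (V : S.Opens) (a : Γ(ClSub.idealMod J, V)),
      φ.app (g ⁻¹ᵁ V) (InvX.pullElt g a) = (show Γ(Coh.structureModule Y, g ⁻¹ᵁ V) from g.app V (OmegaSh.idealSect J V a)) :=
    fun V a => Boundary.pullback_adjunct_pullElt g _ a
  have hcov : ∀ y : Y, ∃ b : Y, y ∈ g ⁻¹ᵁ (U b).1 := fun y => ⟨y, hyU y⟩
  let h := Scheme.IdealSheafData.subschemeMap I J g (J.le_map_comap g)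
  have hh : h ≫ J.subschemeι = I.subschemeι ≫ g := Scheme.IdealSheafData.subschemeMap_subschemeι _ _ _ _
  have hzero : φ ≫ ClSub.toSubscheme I = 0 := by
    refine InvX.hom_ext_of_frames (fun y => g ⁻¹ᵁ (U y).1) hcov (fun y => InvX.pullElt g (η y))
      (fun y => InvX.isFrame_pullElt g (hη y)) fun y => ?_
    show (ClSub.toSubscheme I).app _ (φ.app _ (InvX.pullElt g (η y))) = 0
    rw [hφ]
    show I.subschemeι.app (g ⁻¹ᵁ (U y).1) (g.app (U y).1 (OmegaSh.idealSect J (U y).1 (η y))) = 0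
    have key : ∀ (f : I.subscheme ⟶ S), f = h ≫ J.subschemeι →
        f.app (U y).1 (OmegaSh.idealSect J (U y).1 (η y)) = 0 := by
      rintro _ rfl
      rw [Scheme.Hom.comp_app, CommRingCat.comp_apply, OmegaLib.subschemeι_app_idealSect, map_zero]
    exact key (I.subschemeι ≫ g) hh.symm
  let ψ : (Scheme.Modules.pullback g).obj (ClSub.idealMod J) ⟶ ClSub.idealMod I :=
    kernel.lift (ClSub.toSubscheme I) φ hzero
  have hψ : ψ ≫ ClSub.idealModι I = φ := kernel.lift_ι _ _ _
  have hval : ∀ y, OmegaSh.idealSect I (W y).1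
      (ψ.app (W y).1 (AModX.res _ (hWU y) (InvX.pullElt g (η y)))) =
      g.appLE (U y).1 (W y).1 (hWU y) (OmegaSh.idealSect J (U y).1 (η y)) := by
    intro y
    rw [AModX.app_res]
    refine (OmegaLib.idealSect_map I (hWU y) _).trans ?_
    rw [Scheme.Hom.appLE, CommRingCat.comp_apply]
    refine congrArg (Y.presheaf.map (homOfLE (hWU y)).op) ?_
    rw [OmegaSh.idealSect_apply]
    exact (congrArg (fun χ => χ.app (g ⁻¹ᵁ (U y).1) (InvX.pullElt g (η y))) hψ).trans (hφ _ _)
  have : IsIso ψ := Boundary.isIso_of_frames ψ (fun y => (W y).1) (fun y => ⟨y, hyW y⟩)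
    (fun y => AModX.res _ (hWU y) (InvX.pullElt g (η y))) (fun y => (InvX.isFrame_pullElt g (hη y)).res _)
    fun y => isFrame_of_span I (W y) (hε y) (by
      rw [hval, ModPairLib.ideal_comap J g (U y) (W y) (hWU y), span_idealSect_frame J (U y) (hη y),
        Ideal.map_span, Set.image_singleton])
  exact ⟨asIso ψ⟩

end Groth.Agent.CurveAlgEqLib
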