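import Groth.Agent.CurveAlgEqLib.IdealPull
import Groth.Agent.SecDiv.Section
import Groth.Agent.CurveNondeg.Point
import Groth.Agent.S5342
import Groth.Agent.S2501
import Groth.Agent.SmoothCrit.Sch
import Groth.Agent.H23.PicMul
import Groth.Agent.Lib.CurveDuality
import Groth.Agent.Lib.CurveSection
import Mathlib.AlgebraicGeometry.AlgClosed.Basic
import Groth.Prelude.Def_Pic13

/-!
# Modules of degree zero on a curve are algebraically trivial
-/

set_option linter.style.haveILetI false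
set_option linter.unusedSectionVars false
set_option backward.isDefEq.respectTransparency false
set_option backward.isDefEq.respectTransparency.types false

universe u

open CategoryTheory CategoryTheory.Limits AlgebraicGeometry TopologicalSpace

namespace Groth.Agent.CurveAlgEqLib

open Groth.Agent Groth.Agent.H23 Groth.Agent.H23.PicMul Groth.Agent.CurvePoint
open scoped Groth.Agent.H23.PicMul

variable (k : Type u) [Field k] {X : Scheme.{u}} [X.Over (Spec (CommRingCat.of k))]

/-- Classes of modules algebraically equivalent to zero. -/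
def IsAlgCl (c : PicF.Cl X) : Prop := ∃ L : X.Modules, PicF.cl L = c ∧ Pic13.IsAlgEquivZero k X L

theorem isAlgEquivZero_of_isAlgCl {L : X.Modules} (h : IsAlgCl k (PicF.cl L)) : Pic13.IsAlgEquivZero k X L := by
  obtain ⟨L', hL', T, q, hT, hq, hqc, M, hM, t, t₀, ht, ht₀, ⟨et⟩, h₀⟩ := h
  exact ⟨T, q, hT, hq, hqc, M, hM, t, t₀, ht, ht₀, ⟨et ≪≫ (cl_eq_iff.1 hL').some⟩, h₀⟩

theorem isAlgCl_one : IsAlgCl k (1 : PicF.Cl X) := by
  refine ⟨_, rfl, Spec (CommRingCat.of k), 𝟙 _, inferInstance, inferInstance, inferInstance, Coh.structureModule _,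
    InvX.isInvertible_structureModule, 𝟙 _, 𝟙 _, Category.comp_id _, Category.comp_id _, ?_, ?_⟩ <;>
  exact PicClLib.nonempty_pullback_structureModule _

variable [IsAlgClosed k]

theorem isAlgCl_mul {a b : PicF.Cl X} (ha : IsAlgCl k a) (hb : IsAlgCl k b) : IsAlgCl k (a * b) := by
  obtain ⟨L, rfl, T, q, hT, hq, hqc, M, hM, t, t₀, ht, ht₀, het, het₀⟩ := ha
  obtain ⟨L', rfl, T', q', hT', hq', hqc', M', hM', s, s₀, hs, hs₀, hes, hes₀⟩ := hb
  haveI := hT
  haveI := hT'
  haveI := hq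
  haveI := hq'
  haveI := hqc
  haveI := hqc'
  haveI : ConnectedSpace ↥(pullback q q') := S5342.result k T T' q q' t ht
  let r : pullback q q' ⟶ Spec (CommRingCat.of k) := pullback.fst q q' ≫ q
  let P₁ : Pic13.prodK k X r ⟶ Pic13.prodK k X q :=
    pullback.map _ _ _ _ (𝟙 X) (pullback.fst q q') (𝟙 _) (by simp) (by simp [r])
  let P₂ : Pic13.prodK k X r ⟶ Pic13.prodK k X q' :=
    pullback.map _ _ _ _ (𝟙 X) (pullback.snd q q') (𝟙 _) (by simp) (by simp [r, pullback.condition])
  let N := CohB1.tensorMod ((Scheme.Modules.pullback P₁).obj M) ((Scheme.Modules.pullback P₂).obj M')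
  have hN : PicF.IsInvertible N :=
    InvX.isInvertible_tensorMod (PicClLib.isInvertible_pullback P₁ hM) (PicClLib.isInvertible_pullback P₂ hM')
  have fib : ∀ (a : Spec (CommRingCat.of k) ⟶ T) (b : Spec (CommRingCat.of k) ⟶ T') (ha : a ≫ q = 𝟙 _) (hb : b ≫ q' = 𝟙 _),
      ∃ (c : Spec (CommRingCat.of k) ⟶ pullback q q') (hc : c ≫ r = 𝟙 _),
        PicF.cl (Pic13.fibreMod k X r c hc N) =
          PicF.cl (Pic13.fibreMod k X q a ha M) * PicF.cl (Pic13.fibreMod k X q' b hb M') := by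
    intro a b ha hb
    have hc : pullback.lift a b (ha.trans hb.symm) ≫ r = 𝟙 _ := by
      rw [← Category.assoc, pullback.lift_fst, ha]
    refine ⟨_, hc, ?_⟩
    have e₁ : Pic13.sliceAt k X r _ hc ≫ P₁ = Pic13.sliceAt k X q a ha := by
      refine pullback.hom_ext ?_ ?_ <;> simp [P₁, Pic13.sliceAt]
    have e₂ : Pic13.sliceAt k X r _ hc ≫ P₂ = Pic13.sliceAt k X q' b hb := by
      refine pullback.hom_ext ?_ ?_ <;> simp [P₂, Pic13.sliceAt]
    show PicF.pullCl _ (PicF.cl N) = _
    rw [cl_tensor, pullCl_mul]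
    refine congrArg₂ (· * ·) (cl_eq_iff.2 ?_) (cl_eq_iff.2 ?_)
    · exact ⟨(Scheme.Modules.pullbackComp _ _).app M ≪≫ (Scheme.Modules.pullbackCongr e₁).app M⟩
    · exact ⟨(Scheme.Modules.pullbackComp _ _).app M' ≪≫ (Scheme.Modules.pullbackCongr e₂).app M'⟩
  obtain ⟨c, hc, hcc⟩ := fib t s ht hs
  obtain ⟨c₀, hc₀, hcc₀⟩ := fib t₀ s₀ ht₀ hs₀
  refine ⟨CohB1.tensorMod L L', rfl, pullback q q', r, inferInstance, inferInstance, inferInstance, N, hN, c, c₀, hc,
    hc₀, cl_eq_iff.1 ?_, cl_eq_iff.1 ?_⟩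
  · rw [hcc, cl_eq_iff.2 het, cl_eq_iff.2 hes, cl_tensor]
  · rw [hcc₀, cl_eq_iff.2 het₀, cl_eq_iff.2 hes₀, ← PicMul.one_def, one_mul]

variable [IsProper (X ↘ Spec (CommRingCat.of k))] [Smooth (X ↘ Spec (CommRingCat.of k))] [IsIntegral X]

theorem smoothOfRelativeDimension_one (hdim : topologicalKrullDim X = 1) : SmoothOfRelativeDimension 1 (X ↘ Spec (CommRingCat.of k)) := by
  have h0 : topologicalKrullDim ↥(Spec (CommRingCat.of k)) = ((0 : ℕ) : WithBot ℕ∞) := by
    show topologicalKrullDim (PrimeSpectrum k) = _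
    rw [PrimeSpectrum.topologicalKrullDim_eq_ringKrullDim]
    exact ringKrullDim_eq_zero_of_field k
  exact (SmoothCrit.smoothOfRelativeDimension_iff (X ↘ Spec (CommRingCat.of k)) (𝟙 (Spec (CommRingCat.of k))) (X ↘ Spec (CommRingCat.of k)) (Category.comp_id _) 1 0 h0
    (by rw [hdim]; rfl)).2 inferInstance

theorem ker_point (x : Spec (CommRingCat.of k) ⟶ X) [IsClosedImmersion x]
    {p : X} (hp : IsClosed ({p} : Set X)) (hx : x (IsLocalRing.closedPoint k) = p) :
    x.ker = ptIdeal p hp := by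
  have hsupp : x.ker.support = (⟨{p}, hp⟩ : Closeds X) := by
    refine Closeds.ext ?_
    rw [x.support_ker]
    have hr : Set.range x = {p} := by
      rw [Set.range_eq_singleton]
      exact fun a => by rw [← hx]; exact congrArg x (Subsingleton.elim _ _)
    rw [hr, hp.closure_eq]
    rfl
  show x.ker = Scheme.IdealSheafData.vanishingIdeal ⟨{p}, hp⟩
  rw [← hsupp, Scheme.IdealSheafData.vanishingIdeal_support]
  refine Scheme.IdealSheafData.ext (funext fun U => ?_)
  show _ = (x.ker.ideal U).radical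
  rw [Scheme.Hom.ker_apply]
  refine le_antisymm Ideal.le_radical fun a ha => ?_
  obtain ⟨n, hn⟩ := ha
  rw [RingHom.mem_ker, map_pow] at hn
  exact RingHom.mem_ker.2 (eq_zero_of_pow_eq_zero hn)

theorem isAlgCl_pt (hdim : topologicalKrullDim X = 1) {p p₀ : X} (hp : IsClosed ({p} : Set X))
    (hp₀ : IsClosed ({p₀} : Set X)) {D₀ : X.Modules} (hD₀ : PicF.IsInvertible D₀)
    (e₀ : PicF.cl (ptMod p₀ hp₀) * PicF.cl D₀ = 1) :
    IsAlgCl k (PicF.cl (ptMod p hp) * PicF.cl D₀) := by
  haveI := smoothOfRelativeDimension_one k hdim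
  let δ : X ⟶ Pic13.prodK k X (X ↘ Spec (CommRingCat.of k)) := pullback.lift (𝟙 X) (𝟙 X) rfl
  let pr : Pic13.prodK k X (X ↘ Spec (CommRingCat.of k)) ⟶ X := pullback.fst (X ↘ Spec (CommRingCat.of k)) (X ↘ Spec (CommRingCat.of k))
  let pr₂ : Pic13.prodK k X (X ↘ Spec (CommRingCat.of k)) ⟶ X := pullback.snd (X ↘ Spec (CommRingCat.of k)) (X ↘ Spec (CommRingCat.of k))
  haveI : SmoothOfRelativeDimension 1 pr₂ :=
    (smoothOfRelativeDimension_isStableUnderBaseChange (n := 1)).of_isPullback (IsPullback.of_hasPullback (X ↘ Spec (CommRingCat.of k)) (X ↘ Spec (CommRingCat.of k))) inferInstance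
  haveI : IsSeparated (X ↘ Spec (CommRingCat.of k)) := inferInstance
  have hδ : δ ≫ pr₂ = 𝟙 X := pullback.lift_snd _ _ _
  haveI : IsClosedImmersion (δ ≫ pr₂) := by rw [hδ]; infer_instance
  haveI : IsClosedImmersion δ := IsClosedImmersion.of_comp δ pr₂
  have hJ : PicF.IsInvertible (ClSub.idealMod δ.ker) :=
    (S8914.result δ.ker).2 (SecDiv.isEffCartierIdeal_ker_section pr₂ δ hδ)
  have fib : ∀ (z : X) (hz : IsClosed ({z} : Set X)), ∃ (x : Spec (CommRingCat.of k) ⟶ X) (hx : x ≫ (X ↘ Spec (CommRingCat.of k)) = 𝟙 _),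
      PicF.cl (Pic13.fibreMod k X (X ↘ Spec (CommRingCat.of k)) x hx (CohB1.tensorMod (ClSub.idealMod δ.ker) ((Scheme.Modules.pullback pr).obj D₀))) =
        PicF.cl (ptMod z hz) * PicF.cl D₀ := by
    intro z hz
    let x := pointOfClosedPoint (X ↘ Spec (CommRingCat.of k)) z hz
    have hx : x ≫ (X ↘ Spec (CommRingCat.of k)) = 𝟙 _ := pointOfClosedPoint_comp (X ↘ Spec (CommRingCat.of k)) z hz
    haveI : IsClosedImmersion x := isClosedImmersion_of_comp_eq_id _ _ hx
    refine ⟨x, hx, ?_⟩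
    let s := Pic13.sliceAt k X (X ↘ Spec (CommRingCat.of k)) x hx
    have hpb : IsPullback x x s δ := by
      refine ⟨⟨?_⟩, ⟨PullbackCone.IsLimit.mk _ (fun c => c.fst ≫ (X ↘ Spec (CommRingCat.of k))) ?_ ?_ ?_⟩⟩
      · refine pullback.hom_ext ?_ ?_
        · simp [s, δ, Pic13.sliceAt]
        · simp only [s, δ, Pic13.sliceAt, Category.assoc, pullback.lift_snd, Category.comp_id]
          rw [← Category.assoc, hx, Category.id_comp]
      · intro c
        have h1 := congrArg (· ≫ pr) c.condition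
        have h2 := congrArg (· ≫ pr₂) c.condition
        simp only [s, δ, pr, pr₂, Pic13.sliceAt, Category.assoc, pullback.lift_fst, pullback.lift_snd, Category.comp_id] at h1 h2
        rw [h1, ← Category.assoc] at h2
        rw [h1, Category.assoc]
        simpa only [Category.assoc] using h2
      · intro c
        have h1 := congrArg (· ≫ pr) c.condition
        have h2 := congrArg (· ≫ pr₂) c.condition
        simp only [s, δ, pr, pr₂, Pic13.sliceAt, Category.assoc, pullback.lift_fst, pullback.lift_snd, Category.comp_id] at h1 h2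
        rw [Category.assoc, h2]
      · intro c m hm _
        rw [← hm, Category.assoc, hx, Category.comp_id]
    have hcomap : δ.ker.comap s = ptIdeal z hz := by
      rw [← FComplLib.ker_of_isPullback hpb]
      exact ker_point k x hz (pointOfClosedPoint_apply (X ↘ Spec (CommRingCat.of k)) z hz _)
    show PicF.pullCl s (PicF.cl (CohB1.tensorMod _ _)) = _
    rw [cl_tensor, pullCl_mul]
    refine congrArg₂ (· * ·) ?_ (cl_eq_iff.2 ⟨(Scheme.Modules.pullbackComp _ _).app D₀ ≪≫
      (Scheme.Modules.pullbackCongr (show s ≫ pr = 𝟙 X from pullback.lift_fst _ _ _)).app D₀ ≪≫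
      (Scheme.Modules.pullbackId X).app D₀⟩)
    have hinv : PicF.IsInvertible (ClSub.idealMod (δ.ker.comap s)) := by
      rw [hcomap]; exact isInvertible_ptMod z hz k hdim
    refine (cl_eq_iff.2 (nonempty_pullback_idealMod s hJ hinv)).trans ?_
    rw [hcomap]
  obtain ⟨x, hx, hcx⟩ := fib p hp
  obtain ⟨x₀, hx₀, hcx₀⟩ := fib p₀ hp₀
  refine ⟨CohB1.tensorMod (ptMod p hp) D₀, rfl, X, (X ↘ Spec (CommRingCat.of k)), inferInstance, inferInstance, inferInstance, _,
    InvX.isInvertible_tensorMod hJ (PicClLib.isInvertible_pullback pr hD₀), x, x₀, hx, hx₀, cl_eq_iff.1 ?_, cl_eq_iff.1 ?_⟩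
  · rw [hcx, cl_tensor]
  · rw [hcx₀, e₀, PicMul.one_def]

/-- An ideal of degree `-n` is a product of ideals of points. -/
theorem exists_points (hdim : topologicalKrullDim X = 1) :
    ∀ (n : ℕ) (N : X.Modules), PicF.IsInvertible N → ∀ (φ : N ⟶ Coh.structureModule X), φ ≠ 0 →
      Curv2.deg k X N 1 = -(n : ℤ) →
      ∃ (z : Fin n → X) (hz : ∀ i, IsClosed ({z i} : Set X)), PicF.cl N = ∏ i, PicF.cl (ptMod (z i) (hz i)) := by
  haveI := CurveCohLib.isNoetherian_of_proper (k := k) (X := X)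
  intro n
  induction n with
  | zero =>
    intro N hN φ hφ hd
    haveI := (CurveDeg.deg_le_and_isIso k hdim.le hN CurveDeg.isInvertible_structureModule φ hφ).2 (by
      rw [hd, CurveDeg.deg_structureModule]; rfl)
    refine ⟨Fin.elim0, fun i => i.elim0, ?_⟩
    rw [Fin.prod_univ_zero, PicMul.one_def]
    exact cl_eq_iff.2 ⟨asIso φ⟩
  | succ n ih =>
    intro N hN φ hφ hd
    haveI : Mono φ := InvEnd.mono_of_ne_zero hN CurveDeg.isInvertible_structureModule φ hφ
    have hQ : Coh.IsCoh (cokernel φ) :=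
      QCoh.isCoh_cokernel (CurveDeg.isCoh_of_isInvertible hN).1 QCoh.isCoh_structureModule' φ
    obtain ⟨p, hpS, hp⟩ : ∃ p ∈ CohB1.support (cokernel φ), IsClosed ({p} : Set X) := by
      refine IsClosed.exists_closed_singleton (QCoh.isClosed_support_of_isFT hQ.1 hQ.2)
        (Set.nonempty_iff_ne_empty.2 fun h => ?_)
      haveI : Epi φ := Preadditive.epi_of_isZero_cokernel φ
        (CurveCohLib.isZero_of_subsingleton_stalks fun x => not_not.1 fun hx =>
          Set.notMem_empty x (h ▸ (show x ∈ CohB1.support (cokernel φ) from hx)))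
      haveI : IsIso φ := isIso_of_mono_of_epi φ
      have := CurveRR.deg_congr k (asIso φ) 1
      rw [hd, CurveDeg.deg_structureModule] at this
      omega
    have hn : ¬ Function.Surjective ((DerSch.stalkFunctor X p).map φ) := fun hs => by
      refine hpS (subsingleton_of_forall_eq 0 fun z => ?_)
      let F := DerSch.stalkFunctor X p
      obtain ⟨y, rfl⟩ := (ModuleCat.epi_iff_surjective (F.map (cokernel.π φ))).1 inferInstance z
      obtain ⟨w, rfl⟩ := hs y
      rw [← ConcreteCategory.comp_apply, ← F.map_comp, cokernel.condition, F.map_zero]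
      rfl
    have h0 := CurveNondeg.comp_toSubscheme_eq_zero k φ hp hn
    let v : N ⟶ ptMod p hp := kernel.lift (ClSub.toSubscheme (ptIdeal p hp)) φ h0
    have hv : v ≠ 0 := fun h => hφ (by
      rw [← kernel.lift_ι (ClSub.toSubscheme (ptIdeal p hp)) φ h0]
      show v ≫ _ = 0
      rw [h, zero_comp])
    have hI := isInvertible_ptMod p hp k hdim
    obtain ⟨D, hD, hdD, ⟨e⟩⟩ := CurveDuality.exists_inverse_deg k hdim hI
    let N' := (DCoh.tensorBi.obj D).obj N
    let φ' : N' ⟶ Coh.structureModule X := (DCoh.tensorBi.obj D).map v ≫ (CurveTensor.commIso D (ptMod p hp) ≪≫ e).hom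
    have hφ' : φ' ≠ 0 := fun h => hv (CurveRR.eq_zero_of_map_eq_zero e v (by
      rwa [← cancel_mono (CurveTensor.commIso D (ptMod p hp) ≪≫ e).hom, zero_comp]))
    have hd' : Curv2.deg k X N' 1 = -(n : ℤ) := by
      refine (CurveRR.deg_tensor k hdim hD hN).trans ?_
      rw [hdD, hd, deg_ptMod p hp k]
      push_cast; ring
    obtain ⟨z, hz, hcl⟩ := ih N' (InvX.isInvertible_tensorMod hD hN) φ' hφ' hd'
    refine ⟨Fin.cons p z, Fin.cases hp hz, ?_⟩
    rw [Fin.prod_univ_succ]
    have h1 : PicF.cl (ptMod p hp) * PicF.cl D = 1 := cl_eq_iff.2 ⟨e⟩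
    show PicF.cl N = PicF.cl (ptMod p hp) * ∏ i, PicF.cl (ptMod (z i) (hz i))
    rw [← hcl, show PicF.cl N' = PicF.cl D * PicF.cl N from rfl, ← mul_assoc, h1, one_mul]

/-- Degree zero implies algebraically trivial. -/
theorem isAlgEquivZero_of_deg_eq_zero (hdim : topologicalKrullDim X = 1) {L : X.Modules} (hL : PicF.IsInvertible L)
    (hdeg : Curv2.deg k X L 1 = 0) : Pic13.IsAlgEquivZero k X L := by
  classical
  haveI := CurveCohLib.isNoetherian_of_proper (k := k) (X := X)
  refine isAlgEquivZero_of_isAlgCl k ?_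
  obtain ⟨S, hS, hScl⟩ := CurveSection.exists_closed_finset k hdim 1
  obtain ⟨p₀, hp₀S⟩ := Finset.card_pos.1 (show 0 < S.card by omega)
  have hp₀ := hScl p₀ hp₀S
  have hI := isInvertible_ptMod p₀ hp₀ k hdim
  obtain ⟨D₀, hD₀, hdD₀, ⟨e₀⟩⟩ := CurveDuality.exists_inverse_deg k hdim hI
  have he₀ : PicF.cl (ptMod p₀ hp₀) * PicF.cl D₀ = 1 := cl_eq_iff.2 ⟨e₀⟩
  obtain ⟨m, hm⟩ : ∃ m : ℕ, 0 < (m : ℤ) + Curv2.euler k X (Coh.structureModule X) :=
    ⟨(1 - Curv2.euler k X (Coh.structureModule X)).toNat, by omega⟩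
  let N := CohB1.tensorMod L (CohB1.tensorPow (ptMod p₀ hp₀) m)
  have hN : PicF.IsInvertible N := InvX.isInvertible_tensorMod hL (InvX.isInvertible_tensorPow (n := m) hI)
  have hdN : Curv2.deg k X N 1 = -(m : ℤ) := by
    have key : ∀ j : ℕ, Curv2.deg k X (CohB1.tensorPow (ptMod p₀ hp₀) j) 1 = -(j : ℤ) := by
      intro j
      induction j with
      | zero => exact (CurveDeg.deg_structureModule k).trans (by simp)
      | succ j ih =>
        refine (CurveRR.deg_tensor k hdim (InvX.isInvertible_tensorPow (n := j) hI) hI).trans ?_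
        rw [ih, deg_ptMod p₀ hp₀ k]
        push_cast; ring
    refine (CurveRR.deg_tensor k hdim hL (InvX.isInvertible_tensorPow (n := m) hI)).trans ?_
    rw [hdeg, key, zero_add]
  obtain ⟨B, hB, hdB, ⟨eB⟩⟩ := CurveDuality.exists_inverse_deg k hdim hN
  have hBc := CurveDeg.isCoh_of_isInvertible hB
  have hh0 : 0 < Module.finrank k (Coh.HH X ((DCoh.tensorBi.obj B).obj (Coh.structureModule X)) 0) := by
    rw [(CurveCohLib.hhEquiv (k := k) (KFlatLib.tensorUnitIso B) 0).finrank_eq]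
    have h := CurveRR.euler_eq_h0_sub_h1 k hdim.le hBc.1
    rw [hdN] at hdB
    unfold Curv2.deg at hdB
    push_cast at hdB
    omega
  haveI := CurveCohLib.finite_HH (k := k) (CurveTensor.isCoh_tensor
    (fun x => let ⟨U, hx, e⟩ := InvEnd.isFinLocFreeOfRank_one hB x; ⟨U, 1, hx, e⟩) QCoh.isCoh_structureModule') 0
  obtain ⟨t, ht⟩ := Module.finrank_pos_iff_exists_ne_zero.1 hh0
  obtain ⟨z, hz, hcl⟩ := exists_points k hdim m N hN (CurveDuality.homOfTwist eB _ t)
    (CurveDuality.homOfTwist_ne_zero eB ht) hdN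
  have hprod : ∀ s : Finset (Fin m), IsAlgCl k (∏ i ∈ s, (PicF.cl (ptMod (z i) (hz i)) * PicF.cl D₀)) := by
    intro s
    induction s using Finset.induction_on with
    | empty => rw [Finset.prod_empty]; exact isAlgCl_one k
    | insert i s his ih =>
      rw [Finset.prod_insert his]
      exact isAlgCl_mul k (isAlgCl_pt k hdim (hz i) hp₀ hD₀ he₀) ih
  have := hprod Finset.univ
  rw [Finset.prod_mul_distrib, ← hcl, Finset.prod_const, Finset.card_univ, Fintype.card_fin,
    show PicF.cl N = PicF.cl L * PicF.cl (ptMod p₀ hp₀) ^ m from (cl_tensor _ _).trans (congrArg _ (cl_tensorPow _ m)),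
    mul_assoc, ← mul_pow, he₀, one_pow, mul_one] at this
  exact this

end Groth.Agent.CurveAlgEqLib
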